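import Groth.Agent.Lib.Euler.Torsion
import Groth.Agent.Lib.Euler.Rank
import Groth.Agent.Lib.Euler.Scalar
import Groth.Agent.Lib.OmegaFree.Basic
import Groth.Agent.Lib.CurveMult.TwistHom
import Groth.Agent.Lib.QCoh.SupportExact

/-!
# Singular endomorphisms of rank two bundles on factorial schemes have invertible kernel
-/

set_option autoImplicit false
set_option linter.all false
set_option backward.isDefEq.respectTransparency false

universe u

open CategoryTheory CategoryTheory.Limits AlgebraicGeometry TopologicalSpace Opposite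
open GrothLib.InvExt (mres)
open GrothLib.QCoh (stalkLin)
open GrothLib.FinCov (IsFrame)

noncomputable section

namespace GrothLib.RankTwo12

/-- The kernel of a nonzero singular endomorphism of a free module of rank two over a factorial domain is
free of rank one. -/
theorem exists_span_ker {R M : Type*} [CommRing R] [IsDomain R] [UniqueFactorizationMonoid R] [AddCommGroup M]
    [Module R M] (b : Module.Basis (Fin 2) R M) (f : M →ₗ[R] M) (hf : f ≠ 0) (hk : LinearMap.ker f ≠ ⊥) :
    ∃ v : M, v ≠ 0 ∧ LinearMap.ker f = R ∙ v := by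
  classical
  have htf : ∀ (r : R) (x : M), r • x = 0 → r = 0 ∨ x = 0 := fun r x h => by
    by_cases hr : r = 0
    · exact Or.inl hr
    · refine Or.inr (b.repr.injective (Finsupp.ext fun i => ?_))
      have := congrArg (fun y => b.repr y i) h
      simpa [hr] using this
  obtain ⟨i, hi⟩ : ∃ i : Fin 2, ¬ ∀ x, b.repr (f x) i = 0 := by
    by_contra h
    push Not at h
    exact hf (LinearMap.ext fun x => b.repr.injective (Finsupp.ext fun i => by simpa using h i x))
  let a := b.repr (f (b 0)) i
  let c := b.repr (f (b 1)) i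
  have hrow : ∀ x, b.repr (f x) i = b.repr x 0 * a + b.repr x 1 * c := fun x => by
    conv_lhs => rw [← b.sum_repr x, Fin.sum_univ_two, map_add, map_smul, map_smul, map_add, map_smul, map_smul]
    simp [a, c]
  obtain ⟨a', c', g, hg, hrel, ha, hc⟩ : ∃ a' c' g : R, g ≠ 0 ∧ IsRelPrime a' c' ∧ g * a' = a ∧ g * c' = c := by
    by_cases ha : a = 0
    · have hc : c ≠ 0 := fun hc => hi fun x => by rw [hrow, ha, hc, mul_zero, mul_zero, add_zero]
      exact ⟨0, 1, c, hc, isRelPrime_one_right, by rw [mul_zero, ha], mul_one c⟩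
    · obtain ⟨a', c', g, h1, h2, h3⟩ := UniqueFactorizationMonoid.exists_reduced_factors a ha c
      exact ⟨a', c', g, fun hg => ha (by rw [← h2, hg, zero_mul]), fun d hd hd' => h1 hd hd', h2, h3⟩
  have hspan : ∀ x, f x = 0 → ∃ t : R, x = t • (c' • b 0 - a' • b 1) := fun x hx => by
    have h := hrow x
    rw [hx, map_zero, Finsupp.zero_apply, ← ha, ← hc] at h
    have h' : b.repr x 0 * a' + b.repr x 1 * c' = 0 :=
      (mul_eq_zero.1 (show g * (b.repr x 0 * a' + b.repr x 1 * c') = 0 by linear_combination -h)).resolve_left hg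
    by_cases ha' : a' = 0
    · have hu : IsUnit c' := by rw [ha'] at hrel; exact hrel (dvd_zero c') dvd_rfl
      rw [ha', mul_zero, zero_add] at h'
      have h1 : b.repr x 1 = 0 := (mul_eq_zero.1 h').resolve_right hu.ne_zero
      refine ⟨b.repr x 0 * hu.unit⁻¹.1, ?_⟩
      rw [ha', zero_smul, sub_zero, smul_smul, mul_assoc, IsUnit.val_inv_mul, mul_one]
      conv_lhs => rw [← b.sum_repr x]
      rw [Fin.sum_univ_two, h1, zero_smul, add_zero]
    · obtain ⟨t, ht⟩ : a' ∣ b.repr x 1 :=
        hrel.dvd_of_dvd_mul_right ⟨-b.repr x 0, by linear_combination h'⟩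
      have h0 : b.repr x 0 = -t * c' := by
        refine mul_right_cancel₀ ha' ?_
        rw [ht] at h'
        linear_combination h'
      refine ⟨-t, ?_⟩
      conv_lhs => rw [← b.sum_repr x]
      rw [Fin.sum_univ_two, h0, ht, smul_sub, smul_smul, smul_smul, sub_eq_add_neg, ← neg_smul, mul_comm a' t]
      ring_nf
  obtain ⟨w, hw, hw0⟩ := Submodule.exists_mem_ne_zero_of_ne_bot hk
  obtain ⟨t, ht⟩ := hspan w (LinearMap.mem_ker.1 hw)
  have ht0 : t ≠ 0 := fun h => hw0 (by rw [ht, h, zero_smul])
  have hv : f (c' • b 0 - a' • b 1) = 0 := by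
    refine (htf t _ ?_).resolve_left ht0
    rw [← map_smul, ← ht]
    exact LinearMap.mem_ker.1 hw
  refine ⟨c' • b 0 - a' • b 1, fun h => hw0 (by rw [ht, h, smul_zero]), le_antisymm (fun x hx => ?_) ?_⟩
  · obtain ⟨s, hs⟩ := hspan x (LinearMap.mem_ker.1 hx)
    exact Submodule.mem_span_singleton.2 ⟨s, hs.symm⟩
  · rw [Submodule.span_singleton_le_iff_mem]
    exact LinearMap.mem_ker.2 hv

variable {X : Scheme.{u}} [IsIntegral X]

theorem genericPoint_mem {V : X.Opens} {x : X} (hx : x ∈ V) : genericPoint X ∈ V :=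
  ((genericPoint_spec X).specializes trivial).mem_open V.2 hx

/-- Sections of a bundle on an integral scheme are determined at the generic point. -/
theorem section_eq_zero {F : X.Modules} {n : ℕ} (hF : FlatMod.IsFinLocFreeOfRank n F) {U : X.Opens}
    (s : Γ(F, U)) {hη : genericPoint X ∈ U} (h : F.presheaf.germ U (genericPoint X) hη s = 0) : s = 0 := by
  refine QCoh.section_eq_zero_of_germ F _ fun y hy => ?_
  obtain ⟨D, e, hyD, he⟩ := FinCov.exists_frame_nhd_of_rank hF y
  have h1 := Euler.eq_zero_of_frame_of_germ_generic he (inf_le_right : U ⊓ D ≤ D)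
    (genericPoint_mem (⟨hy, hyD⟩ : y ∈ U ⊓ D)) (F.presheaf.map (homOfLE (inf_le_left : U ⊓ D ≤ U)).op s)
    (by rw [TopCat.Presheaf.germ_res_apply]; exact h)
  rw [← TopCat.Presheaf.germ_res_apply F.presheaf (homOfLE (inf_le_left : U ⊓ D ≤ U)) y ⟨hy, hyD⟩ s, h1, map_zero]

/-- A map of bundles vanishing on one stalk vanishes. -/
theorem eq_zero_of_stalk {N F : X.Modules} {m n : ℕ} (hN : FlatMod.IsFinLocFreeOfRank m N)
    (hF : FlatMod.IsFinLocFreeOfRank n F) (φ : N ⟶ F) (x : X) (h : ∀ v, stalkLin φ x v = 0) : φ = 0 := by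
  obtain ⟨D, e, hxD, he⟩ := FinCov.exists_frame_nhd_of_rank hN x
  have hη : genericPoint X ∈ D := genericPoint_mem hxD
  have h0 : ∀ i, φ.app D (e i) = 0 := fun i => by
    have h1 : F.presheaf.germ D x hxD (φ.app D (e i)) = 0 := by
      rw [← QCoh.stalkLin_germ]; exact h _
    obtain ⟨W, hxW, i₁, i₂, hW⟩ := TopCat.Presheaf.germ_eq F.presheaf x hxD hxD (φ.app D (e i)) 0
      (h1.trans (map_zero _).symm)
    refine section_eq_zero hF _ (hη := hη) ?_
    rw [← TopCat.Presheaf.germ_res_apply F.presheaf i₁ (genericPoint X) (genericPoint_mem hxW), hW, map_zero, map_zero]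
  have hgen : ∀ v, stalkLin φ (genericPoint X) v = 0 := fun v => by
    obtain ⟨c, rfl⟩ := (Euler.bijective_germ_comb he hη).2 v
    simp [QCoh.stalkLin_germ, h0]
  refine Scheme.Modules.hom_ext _ _ fun U => AddCommGrpCat.ext fun s => ?_
  show φ.app U s = 0
  refine QCoh.section_eq_zero_of_germ F _ fun y hy => ?_
  have hs : φ.app U s = 0 := section_eq_zero hF _ (hη := genericPoint_mem hy)
    (by rw [← QCoh.stalkLin_germ]; exact hgen _)
  rw [hs, map_zero]

/-- A nonzero map from an invertible module to a bundle is a monomorphism. -/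
theorem mono_of_ne_zero {N F : X.Modules} {n : ℕ} (hN : PicF.IsInvertible N)
    (hF : FlatMod.IsFinLocFreeOfRank n F) {φ : N ⟶ F} (hφ : φ ≠ 0) : Mono φ := by
  have hN1 : FlatMod.IsFinLocFreeOfRank 1 N := Euler.isFinLocFreeOfRank_one_of_invertible hN
  refine QCoh.mono_of_app_injective _ fun U => (injective_iff_map_eq_zero _).2 fun s hs => ?_
  refine QCoh.section_eq_zero_of_germ N _ fun y hy => ?_
  letI : Field (X.presheaf.stalk (genericPoint X)) := CurvePoints.isField_stalk_genericPoint.toField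
  obtain ⟨b⟩ := OmegaFree.exists_basis_stalk hN1 (genericPoint X)
  have hb : stalkLin φ (genericPoint X) (b 0) ≠ 0 := fun h0 => hφ (eq_zero_of_stalk hN1 hF φ _ fun v => by
    rw [← b.sum_repr v]
    simp [h0])
  have hs' : stalkLin φ (genericPoint X) (N.presheaf.germ U _ (genericPoint_mem hy) s) = 0 := by
    rw [QCoh.stalkLin_germ]
    exact (congrArg (F.presheaf.germ U _ (genericPoint_mem hy)) hs).trans (map_zero _)
  have hz : N.presheaf.germ U _ (genericPoint_mem hy) s = 0 := by
    rw [← b.sum_repr (N.presheaf.germ U _ (genericPoint_mem hy) s), Fin.sum_univ_one]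
    rw [← b.sum_repr (N.presheaf.germ U _ (genericPoint_mem hy) s), Fin.sum_univ_one, map_smul, smul_eq_zero] at hs'
    rw [hs'.resolve_right hb, zero_smul]
  rw [section_eq_zero hN1 s hz, map_zero]

/-- The kernel of a nonzero singular endomorphism of a rank two bundle is invertible. -/
theorem isInvertible_kernel [IsLocallyNoetherian X]
    (hufd : ∀ x : X, UniqueFactorizationMonoid (X.presheaf.stalk x)) {E N : X.Modules}
    (hE : FlatMod.IsFinLocFreeOfRank 2 E) {m : ℕ} (hN : FlatMod.IsFinLocFreeOfRank m N) {χ : E ⟶ E} (hχ : χ ≠ 0)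
    {j : N ⟶ E} (hj : j ≠ 0) (hjχ : j ≫ χ = 0) : PicF.IsInvertible (kernel χ) := by
  have hEc := Euler.isCoh_of_isFinLocFree (FinCov.isFinLocFree_of_rank hE)
  refine CurveMult.isInvertible_of_rank_one (OmegaFree.isFinLocFreeOfRank_of_free_stalks
    (QCoh.isCoh_kernel χ hEc hEc) 1 fun x => ?_)
  haveI := hufd x
  haveI : _root_.IsDomain (X.presheaf.stalk x) := inferInstance
  obtain ⟨b⟩ := OmegaFree.exists_basis_stalk hE x
  have hex : Function.Exact (stalkLin (kernel.ι χ) x) (stalkLin χ x) :=
    (ShortComplex.ShortExact.moduleCat_exact_iff_function_exact _).1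
      ((OX.exact_iff (ShortComplex.mk (kernel.ι χ) χ (kernel.condition χ))).1
        (ShortComplex.exact_of_f_is_kernel _ (kernelIsKernel χ)) x)
  obtain ⟨v, hv, hker⟩ := exists_span_ker b (stalkLin χ x)
    (fun h => hχ (eq_zero_of_stalk hE hE χ x fun v => by rw [h]; rfl))
    (fun h => hj (eq_zero_of_stalk hN hE j x fun v => by
      have h1 : stalkLin j x v ∈ LinearMap.ker (stalkLin χ x) := by
        rw [LinearMap.mem_ker, ← QCoh.stalkLin_comp, hjχ]
        exact Euler.stalkLin_zero_apply _ _
      rw [h] at h1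
      exact (Submodule.mem_bot _).1 h1))
  obtain ⟨v', hv'⟩ := (hex v).1 (LinearMap.mem_ker.1 (hker ▸ Submodule.mem_span_singleton_self v))
  have hinj : Function.Injective (stalkLin (kernel.ι χ) x) := QCoh.stalkLin_injective _ x
  refine ⟨Module.Basis.mk (v := fun _ : Fin 1 => v') ?_ ?_⟩
  · rw [Fintype.linearIndependent_iff]
    intro g hg i
    rw [Fin.sum_univ_one] at hg
    have h1 : g 0 • v = 0 := by rw [← hv', ← map_smul, hg, map_zero]
    have h2 := congrArg b.repr h1
    rw [map_smul, map_zero, smul_eq_zero] at h2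
    rw [Fin.eq_zero i]
    exact h2.resolve_right fun h => hv (b.repr.injective (h.trans (map_zero _).symm))
  · rintro z -
    rw [Set.range_const]
    have hz : stalkLin (kernel.ι χ) x z ∈ LinearMap.ker (stalkLin χ x) :=
      LinearMap.mem_ker.2 ((hex _).2 ⟨z, rfl⟩)
    rw [hker] at hz
    obtain ⟨r, hr⟩ := Submodule.mem_span_singleton.1 hz
    refine Submodule.mem_span_singleton.2 ⟨r, hinj ?_⟩
    rw [map_smul, hv', hr]

end GrothLib.RankTwo12
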