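import Groth.Agent.Lib.RankTwo12.Proj
import Groth.Agent.Lib.ExtPowX.Basic
import Groth.Agent.Lib.TensorGen.Basic
import Groth.Agent.S15827

/-!
# Simple rank two bundles on projective space are stable
-/

set_option autoImplicit false
set_option linter.all false
set_option maxHeartbeats 800000
set_option backward.isDefEq.respectTransparency false

universe u

open CategoryTheory CategoryTheory.Limits AlgebraicGeometry TopologicalSpace Opposite
open GrothLib.InvExt (mres IsGen)
open GrothLib.FinCov (IsFrame)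
open GrothLib.QCoh (stalkLin)

noncomputable section

namespace GrothLib.RankTwo12

section
variable {X : Scheme.{u}}

/-- A twist of a rank two bundle by an invertible module has rank two. -/
theorem isFinLocFreeOfRank_tensor {E M : X.Modules} (hE : FlatMod.IsFinLocFreeOfRank 2 E)
    (hM : PicF.IsInvertible M) : FlatMod.IsFinLocFreeOfRank 2 (CohB1.tensorMod E M) := fun x => by
  obtain ⟨D, e, hxD, he⟩ := FinCov.exists_frame_nhd_of_rank hE x
  obtain ⟨V, f, hxV, hf⟩ := InvExt.exists_gen_nhd hM x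
  have hF : IsFrame M (D ⊓ V) fun _ : Fin 1 => mres M inf_le_right f :=
    (InvExt.isGen_iff_isFrame fun _ : Fin 1 => mres M (inf_le_right : D ⊓ V ≤ V) f).2 (hf.restrict _)
  exact ⟨D ⊓ V, ⟨hxD, hxV⟩,
    FinCov.exists_iso_of_frame (TensorGen.isFrame_tm (TensorGen.isFrame_restrict he inf_le_left) hF)⟩

variable [IsIntegral X]

/-- Wedging with a nonzero section gives a nonzero map to the determinant. -/
theorem exists_hom_wedge_section {E L : X.Modules} (hE : FlatMod.IsFinLocFreeOfRank 2 E)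
    (hL : ExtPow.IsExtPow 2 E L) {s : Γ(E, ⊤)} (hs : s ≠ 0) : ∃ α : E ⟶ L, α ≠ 0 := by
  classical
  obtain ⟨φ, hφ⟩ := hL
  let φ₁ : ∀ U : X.affineOpens, Γ(L, U.1) ≃ₗ[Γ(X, U.1)] ↥(⋀[Γ(X, U.1)]^2 Γ(E, U.1)) := φ
  have hφ₁ : ∀ (U V : X.affineOpens) (h : V.1 ≤ U.1) (e : Fin 2 → Γ(E, U.1)),
      mres L h ((φ₁ U).symm (exteriorPower.ιMulti _ 2 e)) =
        (φ₁ V).symm (exteriorPower.ιMulti _ 2 fun j => mres E h (e j)) := hφ
  let ins : ∀ U : X.affineOpens, Γ(E, U.1) →ₗ[Γ(X, U.1)] Γ(L, U.1) := fun U =>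
    (φ₁ U).symm.toLinearMap ∘ₗ
      (exteriorPower.ιMulti Γ(X, U.1) 2 (M := Γ(E, U.1))).toMultilinearMap.toLinearMap ![mres E le_top s, 0] 1
  have hins : ∀ (U : X.affineOpens) (a : Γ(E, U.1)),
      ins U a = (φ₁ U).symm (exteriorPower.ιMulti _ 2 ![mres E le_top s, a]) := fun U a => by
    show (φ₁ U).symm (exteriorPower.ιMulti _ 2 (Function.update ![mres E le_top s, (0 : Γ(E, U.1))] 1 a)) = _
    congr 2
  obtain ⟨α, hα⟩ := AffHom.exists_hom (M := E) (N := L) ins fun U V h m => by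
    show mres L h (ins U m) = ins V (mres E h m)
    rw [hins, hins, hφ₁ U V h]
    congr 2
    funext j
    fin_cases j
    · exact InvExt.mres_mres E le_top h s
    · rfl
  refine ⟨α, fun h0 => hs ?_⟩
  obtain ⟨D, e, hηD, he⟩ := FinCov.exists_frame_nhd_of_rank hE (genericPoint X)
  obtain ⟨W, hW, hηW, hWle⟩ := exists_isAffineOpen_mem_and_subset (x := genericPoint X) (U := D) hηD
  have he' : IsFrame E W fun i => mres E hWle (e i) := TensorGen.isFrame_restrict he _
  let b := he'.basis W le_rfl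
  let Wa : X.affineOpens := ⟨W, hW⟩
  have hdet : ∀ a : Γ(E, W), b.det ![mres E le_top s, a] = 0 := fun a => by
    have h1 : ins Wa a = 0 := by rw [← hα Wa a, h0]; rfl
    rw [hins, LinearEquiv.map_eq_zero_iff, TensorGen.ιMulti_eq_det_smul b] at h1
    exact (TensorGen.bijective_smul_ιMulti b).1 (h1.trans (zero_smul _ _).symm)
  have hc : ∀ i, b.repr (mres E (le_top : W ≤ ⊤) s) i = 0 := fun i => by
    have h := hdet (b (if i = 0 then 1 else 0))
    rw [Module.Basis.det_apply, Matrix.det_fin_two] at h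
    fin_cases i <;> simpa [Module.Basis.toMatrix_apply] using h
  have hzero : mres E (le_top : W ≤ ⊤) s = 0 := b.repr.injective (Finsupp.ext fun i => by simp [hc i])
  refine section_eq_zero hE s (hη := trivial) ?_
  rw [← TopCat.Presheaf.germ_res_apply E.presheaf (homOfLE (le_top : W ≤ ⊤)) _ hηW s]
  exact (congrArg (E.presheaf.germ W _ hηW) hzero).trans (map_zero _)

/-- A rank two bundle is not a retract of an invertible module. -/
theorem not_isRetract {E M : X.Modules} (hE : FlatMod.IsFinLocFreeOfRank 2 E) (hM : PicF.IsInvertible M)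
    (x : E ⟶ M) (y : M ⟶ E) : x ≫ y ≠ 𝟙 E := fun h => by
  obtain ⟨bE⟩ := OmegaFree.exists_basis_stalk hE (genericPoint X)
  obtain ⟨bM⟩ := OmegaFree.exists_basis_stalk (Euler.isFinLocFreeOfRank_one_of_invertible hM) (genericPoint X)
  letI : Field (X.presheaf.stalk (genericPoint X)) := CurvePoints.isField_stalk_genericPoint.toField
  haveI := Module.Finite.of_basis bM
  haveI : IsSplitMono x := IsSplitMono.mk' ⟨y, h⟩
  have h1 := LinearMap.finrank_le_finrank_of_injective (QCoh.stalkLin_injective x (genericPoint X))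
  rw [Module.finrank_eq_card_basis bE, Module.finrank_eq_card_basis bM] at h1
  simp at h1

/-- The endomorphism of `E` obtained from a map `E ⊗ P ⟶ O` and a section of `E ⊗ P`. -/
theorem exists_endo {E P N : X.Modules} (hN : PicF.IsInvertible N) (hP : PicF.IsInvertible P)
    (hE : FlatMod.IsFinLocFreeOfRank 2 E) (e : CohB1.tensorMod P N ≅ Coh.structureModule X)
    (e' : CohB1.tensorMod N P ≅ Coh.structureModule X)
    (a : CohB1.tensorMod E P ⟶ Coh.structureModule X) (ha : a ≠ 0)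
    (b : Coh.structureModule X ⟶ CohB1.tensorMod E P) (hb : b ≠ 0) :
    ∃ (M : X.Modules) (x : E ⟶ M) (y : M ⟶ E), PicF.IsInvertible M ∧ x ≫ y ≠ 0 := by
  haveI := mono_of_ne_zero (PicLoc.isInvertible_structureModule X) (isFinLocFreeOfRank_tensor hE hP) hb
  have hab : a ≫ b ≠ 0 := fun h => ha (by rwa [← cancel_mono b, zero_comp])
  refine ⟨(Euler.tF N).obj (Coh.structureModule X), (CurveMult.twistInverseIso e).inv.app E ≫ (Euler.tF N).map a,
    (Euler.tF N).map b ≫ (CurveMult.twistInverseIso e).hom.app E, ?_, fun h0 => CurveMult.tF_map_ne_zero e' hab ?_⟩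
  · exact Ample.isInvertible_tensorMod (PicLoc.isInvertible_structureModule X) hN
  · rw [← cancel_epi ((CurveMult.twistInverseIso e).inv.app E), ← cancel_mono ((CurveMult.twistInverseIso e).hom.app E),
      comp_zero, zero_comp, Functor.map_comp, Category.assoc, Category.assoc]
    rw [Category.assoc] at h0
    exact h0

end

variable {k : Type u} [Field k] {n : ℕ} [IsIntegral (CohB1.ProjSpace n k)]

/-- A simple rank two bundle has no section in its normalised twist. -/
theorem subsingleton_H0_of_simple [(CohB1.ProjSpace n k).Over (Spec (CommRingCat.of k))]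
    {E : (CohB1.ProjSpace n k).Modules} (hE : FlatMod.IsFinLocFreeOfRank 2 E)
    {c k₀ : ℤ} (hdet : ∃ L : (CohB1.ProjSpace n k).Modules, ExtPow.IsExtPow 2 E L ∧ Nonempty (L ≅ O c))
    (hk₀ : c + 2 * k₀ = 0 ∨ c + 2 * k₀ = -1)
    (hsimple : ∀ φ : E ⟶ E, ∃ a : k, φ = CurveMult.endScalar k E a) :
    Subsingleton (Coh.HH (CohB1.ProjSpace n k) (CohB1.tensorMod E (O k₀)) 0) := by
  by_contra hsub
  rw [not_subsingleton_iff_nontrivial] at hsub
  obtain ⟨u, hu⟩ := Euler.exists_ne_zero_section hsub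
  have hP := ProjPic26.isInvertible_twistProjSpace n k k₀
  have hE' := isFinLocFreeOfRank_tensor hE hP
  obtain ⟨L', -, hL'⟩ := ExtPowX.exists_extPow (FinCov.isFinLocFree_of_rank hE') 2
  obtain ⟨α, hα⟩ := exists_hom_wedge_section hE' hL' hu
  obtain ⟨L, hL, ⟨eL⟩⟩ := hdet
  obtain ⟨e1⟩ := Groth.Agent.S15827.result E (O k₀) (FinCov.isFinLocFree_of_rank hE)
    (Euler.isFinLocFreeOfRank_one_of_invertible hP) 2 L' L hL' hL
  obtain ⟨z⟩ := GrTilde.nonempty_structureModule_iso_twist_zero (CohB1.polyGrading n k)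
  obtain ⟨t1⟩ := nonempty_tensor_O (k := k) (n := n) 0 k₀
  obtain ⟨t2⟩ := nonempty_tensor_O (k := k) (n := n) (0 + k₀) k₀
  obtain ⟨t3⟩ := nonempty_tensor_O (k := k) (n := n) c (0 + k₀ + k₀)
  let ep : CohB1.tensorPow (O (k := k) (n := n) k₀) 2 ≅ O (0 + k₀ + k₀) :=
    Ample.LineData.tensorModMapIso (Ample.LineData.tensorModMapIso z (Iso.refl _) ≪≫ t1) (Iso.refl _) ≪≫ t2
  let eT : L' ≅ O (c + (0 + k₀ + k₀)) := e1 ≪≫ Ample.LineData.tensorModMapIso eL ep ≪≫ t3
  obtain ⟨s', hs'⟩ := exists_hom_O (k := k) (n := n) (show c + (0 + k₀ + k₀) ≤ 0 by omega)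
  haveI := mono_of_ne_zero (ProjPic26.isInvertible_twistProjSpace n k (c + (0 + k₀ + k₀)))
    (Euler.isFinLocFreeOfRank_one_of_invertible (ProjPic26.isInvertible_twistProjSpace n k 0)) hs'
  have ha : α ≫ eT.hom ≫ s' ≫ z.inv ≠ 0 := fun h => hα (by
    rw [← cancel_mono (eT.hom ≫ s' ≫ z.inv), zero_comp]; exact h)
  obtain ⟨e⟩ := nonempty_tensor_O_neg (k := k) (n := n) (add_neg_cancel k₀)
  obtain ⟨e'⟩ := nonempty_tensor_O_neg (k := k) (n := n) (neg_add_cancel k₀)
  have hb : FinCov.homOfSection u ≠ 0 := fun h => hu (by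
    have h1 := FinCov.homOfSection_one u ⊤
    rw [h] at h1
    rw [show (homOfLE (le_top : (⊤ : (CohB1.ProjSpace n k).Opens) ≤ ⊤)).op = 𝟙 _ from Subsingleton.elim _ _,
      CategoryTheory.Functor.map_id] at h1
    exact h1.symm)
  obtain ⟨M, x, y, hM, hxy⟩ := exists_endo (ProjPic26.isInvertible_twistProjSpace n k (-k₀)) hP hE e e'
    (α ≫ eT.hom ≫ s' ≫ z.inv) ha (FinCov.homOfSection u) hb
  obtain ⟨a, ha'⟩ := hsimple (x ≫ y)
  have ha0 : a ≠ 0 := fun h => hxy (by rw [ha', h]; exact map_zero (CurveMult.endScalar k E))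
  refine not_isRetract hE hM ((CurveMult.scalarHom k E a⁻¹) ≫ x) y ?_
  rw [Category.assoc, ha']
  show CurveMult.endScalar k E a * CurveMult.endScalar k E a⁻¹ = 1
  rw [← map_mul, mul_inv_cancel₀ ha0, map_one]

end GrothLib.RankTwo12
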