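import Groth.Agent.Lib.RankTwo12.Kernel
import Groth.Agent.Lib.TensorGen.Det
import Groth.Agent.Lib.AffHom.Basic
import Groth.Agent.Lib.VA.Tensor
import Groth.Prelude.Def_ExtPow2

/-!
# The map `det E ⟶ E ⊗ M` attached to a map `E ⟶ M` out of a rank two bundle
-/

set_option autoImplicit false
set_option linter.all false
set_option backward.isDefEq.respectTransparency false

universe u

open CategoryTheory CategoryTheory.Limits AlgebraicGeometry TopologicalSpace Opposite
open GrothLib.InvExt (mres IsGen)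
open GrothLib.FinCov (IsFrame)
open GrothLib.VA (tm)
open GrothLib.QCoh (stalkLin)

noncomputable section

namespace GrothLib.RankTwo12

variable {X : Scheme.{u}} {E M : X.Modules}

/-- Sections of `α` as a linear map. -/
def appL (α : E ⟶ M) (V : X.Opens) : Γ(E, V) →ₗ[Γ(X, V)] Γ(M, V) where
  toFun x := α.app V x
  map_add' := map_add (α.app V).hom
  map_smul' c x := Scheme.Modules.Hom.app_smul α c x

/-- The bilinear map `(a, b) ↦ b ⊗ α a`. -/
def pairL (α : E ⟶ M) (V : X.Opens) :
    Γ(E, V) →ₗ[Γ(X, V)] Γ(E, V) →ₗ[Γ(X, V)] Γ(CohB1.tensorMod E M, V) :=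
  LinearMap.mk₂ Γ(X, V) (fun a b => tm b (appL α V a))
    (fun a a' b => by rw [map_add, VA.tm_add_right])
    (fun r a b => by rw [map_smul, VA.tm_smul_right])
    (fun a b b' => VA.tm_add_left b b' _)
    (fun r a b => VA.tm_smul_left r b _)

/-- The alternating map `(a, b) ↦ b ⊗ α a - a ⊗ α b`. -/
def altL (α : E ⟶ M) (V : X.Opens) :
    Γ(E, V) [⋀^Fin 2]→ₗ[Γ(X, V)] Γ(CohB1.tensorMod E M, V) where
  toFun v := pairL α V (v 0) (v 1) - pairL α V (v 1) (v 0)
  map_update_add' v i a b := by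
    fin_cases i <;> simp [Function.update_of_ne, map_add] <;> abel
  map_update_smul' v i c a := by
    fin_cases i <;> simp [Function.update_of_ne, smul_sub]
  map_eq_zero_of_eq' v i j h hij := by
    fin_cases i <;> fin_cases j <;> simp_all

theorem altL_apply (α : E ⟶ M) (V : X.Opens) (v : Fin 2 → Γ(E, V)) :
    altL α V v = tm (v 1) (α.app V (v 0)) - tm (v 0) (α.app V (v 1)) := rfl

theorem app_mres (φ : E ⟶ M) {U V : X.Opens} (h : V ≤ U) (m : Γ(E, U)) :
    φ.app V (mres E h m) = mres M h (φ.app U m) :=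
  PresheafOfModules.naturality_apply φ.val (homOfLE h).op m

theorem mres_altL (α : E ⟶ M) {U V : X.Opens} (h : V ≤ U) (v : Fin 2 → Γ(E, U)) :
    mres (CohB1.tensorMod E M) h (altL α U v) = altL α V fun i => mres E h (v i) := by
  rw [altL_apply, altL_apply]
  refine (map_sub ((CohB1.tensorMod E M).presheaf.map (homOfLE h).op).hom _ _).trans ?_
  show mres _ h (tm _ _) - mres _ h (tm _ _) = _
  rw [VA.mres_tm, VA.mres_tm, app_mres, app_mres]

variable [IsIntegral X]

/-- A nonzero map from a rank two bundle to an invertible module gives a nonzero map out of the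
determinant. -/
theorem exists_hom_det {L : X.Modules} (hE : FlatMod.IsFinLocFreeOfRank 2 E) (hL : ExtPow.IsExtPow 2 E L)
    (hM : PicF.IsInvertible M) {α : E ⟶ M} (hα : α ≠ 0) :
    ∃ γ : L ⟶ CohB1.tensorMod E M, γ ≠ 0 := by
  obtain ⟨φ, hφ⟩ := hL
  let φ₁ : ∀ U : X.affineOpens, Γ(L, U.1) ≃ₗ[Γ(X, U.1)] ↥(⋀[Γ(X, U.1)]^2 Γ(E, U.1)) := φ
  have hφ₁ : ∀ (U V : X.affineOpens) (h : V.1 ≤ U.1) (e : Fin 2 → Γ(E, U.1)),
      mres L h ((φ₁ U).symm (exteriorPower.ιMulti _ 2 e)) =
        (φ₁ V).symm (exteriorPower.ιMulti _ 2 fun j => mres E h (e j)) := hφ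
  obtain ⟨γ, hγ⟩ := AffHom.exists_hom (M := L) (N := CohB1.tensorMod E M)
    (fun U => exteriorPower.alternatingMapLinearEquiv (altL α U.1) ∘ₗ (φ₁ U).toLinearMap) fun U V h m => by
    obtain ⟨z, rfl⟩ := (φ₁ U).symm.surjective m
    have hz : z ∈ Submodule.span Γ(X, U.1) (Set.range (exteriorPower.ιMulti Γ(X, U.1) 2 (M := Γ(E, U.1)))) := by
      rw [exteriorPower.ιMulti_span]; exact Submodule.mem_top
    induction hz using Submodule.span_induction with
    | mem y hy =>
      obtain ⟨v, rfl⟩ := hy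
      show mres _ h (exteriorPower.alternatingMapLinearEquiv (altL α U.1) (φ₁ U ((φ₁ U).symm _))) =
        exteriorPower.alternatingMapLinearEquiv (altL α V.1) (φ₁ V (mres L h _))
      rw [hφ₁ U V h v, LinearEquiv.apply_symm_apply, LinearEquiv.apply_symm_apply,
        exteriorPower.alternatingMapLinearEquiv_apply_ιMulti,
        exteriorPower.alternatingMapLinearEquiv_apply_ιMulti, mres_altL]
    | zero => simp
    | add a b _ _ ha hb => simp only [map_add, ha, hb]
    | smul c a _ ha => simp only [map_smul, Scheme.Modules.map_smul, ha]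
  refine ⟨γ, fun hγ0 => hα ?_⟩
  have hM1 : FlatMod.IsFinLocFreeOfRank 1 M := Euler.isFinLocFreeOfRank_one_of_invertible hM
  obtain ⟨V, f, hηV, hf⟩ := InvExt.exists_gen_nhd hM (genericPoint X)
  obtain ⟨D, e, hηD, he⟩ := FinCov.exists_frame_nhd_of_rank hE (genericPoint X)
  obtain ⟨W, hW, hηW, hWle⟩ := exists_isAffineOpen_mem_and_subset (x := genericPoint X) (U := V ⊓ D) ⟨hηV, hηD⟩
  have he' : IsFrame E W fun i => mres E (hWle.trans inf_le_right) (e i) := TensorGen.isFrame_restrict he _
  have hf' : IsGen M W (mres M (hWle.trans inf_le_left) f) := hf.restrict _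
  let e' := fun i => mres E (hWle.trans inf_le_right) (e i)
  let f' := mres M (hWle.trans inf_le_left) f
  have hF : IsFrame M W fun _ : Fin 1 => f' := (InvExt.isGen_iff_isFrame fun _ : Fin 1 => f').2 hf'
  choose c hc using fun i => hf'.exists_smul_eq le_rfl (α.app W (e' i))
  simp only [InvExt.mres_self] at hc
  have h1 : altL α W e' = 0 := by
    have h := hγ ⟨W, hW⟩ ((φ₁ ⟨W, hW⟩).symm (exteriorPower.ιMulti _ 2 e'))
    rw [hγ0] at h
    refine Eq.trans ?_ h.symm
    show _ = exteriorPower.alternatingMapLinearEquiv (altL α W) (φ₁ ⟨W, hW⟩ ((φ₁ ⟨W, hW⟩).symm _))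
    rw [LinearEquiv.apply_symm_apply, exteriorPower.alternatingMapLinearEquiv_apply_ιMulti]
  rw [altL_apply, hc 0, hc 1, VA.tm_smul_right, VA.tm_smul_right] at h1
  have hinj := (TensorGen.isFrame_tm he' hF W le_rfl).1
  let d : Fin (2 * 1) → Γ(X, W) := fun k => if (finProdFinEquiv.symm k).1 = 1 then c 0 else -c 1
  have hd : d = 0 := by
    refine hinj ?_
    show ∑ k, d k • mres _ le_rfl _ = ∑ k, (0 : Γ(X, W)) • mres _ le_rfl _
    simp only [zero_smul, Finset.sum_const_zero, InvExt.mres_self]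
    rw [Fintype.sum_equiv finProdFinEquiv.symm _
      (fun q : Fin 2 × Fin 1 => (if q.1 = 1 then c 0 else -c 1) • tm (e' q.1) f') (fun k => rfl),
      Fintype.sum_prod_type]
    simp only [Fin.sum_univ_two, Fin.sum_univ_one, zero_ne_one, if_false, if_true, neg_smul]
    rw [neg_add_eq_sub]
    exact h1
  have h0 : c 0 = 0 := by
    have := congrFun hd (finProdFinEquiv (1, 0))
    simpa [d] using this
  have h1' : c 1 = 0 := by
    have := congrFun hd (finProdFinEquiv (0, 0))
    simpa [d] using this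
  refine eq_zero_of_stalk hE hM1 α (genericPoint X) fun v => ?_
  obtain ⟨a, rfl⟩ := (Euler.bijective_germ_comb he' hηW).2 v
  have hα0 : ∀ i, α.app W (e' i) = 0 := fun i => by
    rw [hc i]
    fin_cases i
    · exact (congrArg (· • f') h0).trans (zero_smul _ _)
    · exact (congrArg (· • f') h1').trans (zero_smul _ _)
  show stalkLin α _ (∑ i, a i • E.presheaf.germ W (genericPoint X) hηW (e' i)) = 0
  simp only [map_sum, map_smul, QCoh.stalkLin_germ, hα0, map_zero, smul_zero, Finset.sum_const_zero]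

end GrothLib.RankTwo12
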