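import Groth.Agent.Lib.RankTwo12.Wedge
import Groth.Agent.Lib.CurveMult.EndAlg
import Groth.Agent.Lib.CurveMult.ExtEnd
import Groth.Agent.Lib.CurveMult.ProjSmooth
import Groth.Agent.Lib.WeilExt.Extend
import Groth.Agent.Lib.ProjPic26.Main
import Groth.Agent.Lib.ProjPic26.Relative
import Groth.Agent.Lib.ProjCohom.Results
import Groth.Agent.Lib.GrTilde.Mul
import Groth.Agent.Lib.CMReg.ProjSpace
import Groth.Agent.Lib.ProjDim.Const
import Groth.Agent.Lib.Chow.Projective
import Groth.Agent.Lib.RegUFD.Basic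

/-!
# Endomorphisms of stable rank two bundles on projective space
-/

set_option autoImplicit false
set_option linter.all false
set_option maxHeartbeats 800000
set_option backward.isDefEq.respectTransparency false

universe u

open CategoryTheory CategoryTheory.Limits AlgebraicGeometry TopologicalSpace Opposite
open scoped Polynomial

noncomputable section

namespace GrothLib.RankTwo12

variable {k : Type u} [Field k] {n : ℕ}

section
variable {X : Scheme.{u}}

/-- A nonzero map from an invertible module gives a section of the twist by its inverse. -/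
theorem nontrivial_H0_of_map {P E A : X.Modules} (e : CohB1.tensorMod A P ≅ Coh.structureModule X)
    (e' : CohB1.tensorMod P A ≅ Coh.structureModule X) {w : A ⟶ E} (hw : w ≠ 0) :
    Nontrivial (Coh.HH X (CohB1.tensorMod E P) 0) := by
  refine CurveMult.nontrivial_H0_of_hom (f := e.inv ≫ (Euler.tF P).map w) fun h0 => ?_
  refine CurveMult.tF_map_ne_zero e' hw ?_
  rw [← cancel_epi e.inv, comp_zero]
  exact h0

/-- Moving an invertible twist to the source. -/
theorem exists_untwist {E Q N A B : X.Modules} (e : CohB1.tensorMod Q N ≅ Coh.structureModule X)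
    (e' : CohB1.tensorMod N Q ≅ Coh.structureModule X) {γ : A ⟶ CohB1.tensorMod E Q} (hγ : γ ≠ 0)
    (t : CohB1.tensorMod A N ≅ B) : ∃ j : B ⟶ E, j ≠ 0 := by
  refine ⟨t.inv ≫ (Euler.tF N).map γ ≫ (CurveMult.twistInverseIso e).hom.app E, fun h0 => ?_⟩
  refine CurveMult.tF_map_ne_zero e' hγ ?_
  rw [← cancel_epi t.inv, ← cancel_mono ((CurveMult.twistInverseIso e).hom.app E), comp_zero, zero_comp,
    Category.assoc]
  exact h0

end

/-- `O(d)`. -/
abbrev O (d : ℤ) : (CohB1.ProjSpace n k).Modules := Twist.twistProjSpace n k d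

theorem nonempty_tensor_O (a b : ℤ) :
    Nonempty (CohB1.tensorMod (O (k := k) (n := n) a) (O b) ≅ O (a + b)) :=
  GrTilde.nonempty_twist_tensor_twist (ProjPic26.h1_polyGrading n k) a b

theorem nonempty_tensor_O_neg {a b : ℤ} (h : a + b = 0) :
    Nonempty (CohB1.tensorMod (O (k := k) (n := n) a) (O b) ≅ Coh.structureModule (CohB1.ProjSpace n k)) := by
  obtain ⟨t⟩ := nonempty_tensor_O (k := k) (n := n) a b
  obtain ⟨z⟩ := GrTilde.nonempty_structureModule_iso_twist_zero (CohB1.polyGrading n k)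
  exact ⟨t ≪≫ eqToIso (by rw [h]; rfl) ≪≫ z.symm⟩

variable [hint : IsIntegral (CohB1.ProjSpace n k)]

/-- A nonzero map between twists in increasing degree. -/
theorem exists_hom_O {a b : ℤ} (h : a ≤ b) : ∃ s : O (k := k) (n := n) a ⟶ O b, s ≠ 0 := by
  obtain ⟨d, rfl⟩ : ∃ d : ℕ, b = (d : ℤ) + a := ⟨(b - a).toNat, by omega⟩
  obtain ⟨e⟩ := ProjCohom.nonempty_HH_zero (n := n) (R := k) d
  have hnt : Nontrivial (Coh.HH (CohB1.ProjSpace n k) (O (k := k) (n := n) (d : ℤ)) 0) := by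
    refine ⟨e.symm ⟨MvPolynomial.X 0 ^ d, ?_⟩, 0, fun h => ?_⟩
    · simpa using (MvPolynomial.isHomogeneous_X k (0 : Fin (n + 1))).pow d
    · have := congrArg Subtype.val (e.symm.injective (h.trans (map_zero _).symm))
      exact pow_ne_zero d (MvPolynomial.X_ne_zero _) this
  obtain ⟨u, hu⟩ := Euler.exists_ne_zero_section hnt
  have hs : FinCov.homOfSection u ≠ 0 := fun h => hu (by
    have h1 := FinCov.homOfSection_one u ⊤
    rw [h] at h1
    rw [show (homOfLE (le_top : (⊤ : (CohB1.ProjSpace n k).Opens) ≤ ⊤)).op = 𝟙 _ from Subsingleton.elim _ _,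
      CategoryTheory.Functor.map_id] at h1
    exact h1.symm)
  obtain ⟨t⟩ := nonempty_tensor_O (k := k) (n := n) (d : ℤ) a
  obtain ⟨e0⟩ := nonempty_tensor_O_neg (k := k) (n := n) (add_neg_cancel a)
  let L := O (k := k) (n := n) a
  let i : L ≅ (Euler.tF L).obj (Coh.structureModule (CohB1.ProjSpace n k)) :=
    (((OX.tensorBraiding (X := CohB1.ProjSpace n k)).app L).app (Coh.structureModule _) ≪≫
      ((OX.tensorBraiding (X := CohB1.ProjSpace n k)).app (Coh.structureModule _)).app L ≪≫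
        OX.tensorUnitLeftIso L).symm
  refine ⟨i.hom ≫ (Euler.tF L).map (FinCov.homOfSection u) ≫ t.hom, fun h0 => CurveMult.tF_map_ne_zero e0 hs ?_⟩
  rw [← cancel_epi i.hom, ← cancel_mono t.hom, comp_zero, zero_comp, Category.assoc]
  exact h0


/-- A subsheaf `O(m)` with `m ≥ -k₀` gives a section of `E(k₀)`. -/
theorem nontrivial_H0_of_sub {E : (CohB1.ProjSpace n k).Modules} {r : ℕ} (hE : FlatMod.IsFinLocFreeOfRank r E)
    {m k₀ : ℤ} (h : 0 ≤ m + k₀) {j : O m ⟶ E} (hj : j ≠ 0) :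
    Nontrivial (Coh.HH (CohB1.ProjSpace n k) (CohB1.tensorMod E (O k₀)) 0) := by
  obtain ⟨s, hs⟩ := exists_hom_O (k := k) (n := n) (show -k₀ ≤ m by omega)
  haveI := mono_of_ne_zero (ProjPic26.isInvertible_twistProjSpace n k m) hE hj
  have hsj : s ≫ j ≠ 0 := fun h0 => hs (by rwa [← cancel_mono j, zero_comp])
  obtain ⟨e⟩ := nonempty_tensor_O_neg (k := k) (n := n) (neg_add_cancel k₀)
  obtain ⟨e'⟩ := nonempty_tensor_O_neg (k := k) (n := n) (add_neg_cancel k₀)
  exact nontrivial_H0_of_map (P := O (k := k) (n := n) k₀) e e' hsj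

theorem ufd_stalk (x : CohB1.ProjSpace n k) :
    UniqueFactorizationMonoid ((CohB1.ProjSpace n k).presheaf.stalk x) := by
  haveI := CurveMult.smooth_toSpec n k
  haveI := WeilExt.isRegularLocalRing_stalk_of_smooth (CohB1.ProjSpace.toSpec n k)
    (fun s => WeilExt.isRegularLocalRing_stalk_spec k s) x
  exact RegUFD.ufd_of_isRegularLocalRing _

/-- In a stable rank two bundle, two endomorphisms with zero product cannot both be nonzero. -/
theorem eq_zero_of_comp_eq_zero {E : (CohB1.ProjSpace n k).Modules} (hE : FlatMod.IsFinLocFreeOfRank 2 E)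
    {c k₀ : ℤ} (hdet : ∃ L : (CohB1.ProjSpace n k).Modules, ExtPow.IsExtPow 2 E L ∧ Nonempty (L ≅ O c))
    (hk₀ : c + 2 * k₀ = 0 ∨ c + 2 * k₀ = -1)
    (h0 : Subsingleton (Coh.HH (CohB1.ProjSpace n k) (CohB1.tensorMod E (O k₀)) 0))
    {ψ χ : E ⟶ E} (hψ : ψ ≠ 0) (h : ψ ≫ χ = 0) : χ = 0 := by
  by_contra hχ
  haveI : AlgebraicGeometry.IsNoetherian (CohB1.ProjSpace n k) := CMReg.isNoetherian_projSpace
  have hlow : ∀ (m : ℤ) (j : O m ⟶ E), j ≠ 0 → m + k₀ < 0 := fun m j hj => by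
    by_contra hm
    exact not_subsingleton_iff_nontrivial.2 (nontrivial_H0_of_sub hE (not_lt.1 hm) hj) h0
  have hK := isInvertible_kernel ufd_stalk hE hE hχ hψ h
  obtain ⟨q, ⟨eq⟩⟩ := ProjPic26.exists_iso_twist (R := k) (n := n) hK
  have hfac : kernel.lift χ ψ h ≫ kernel.ι χ = ψ := kernel.lift_ι _ _ _
  have hι : eq.inv ≫ kernel.ι χ ≠ 0 := fun h' => hψ (by
    rw [← hfac, ← eq.hom_inv_id_assoc (kernel.ι χ), h', comp_zero, comp_zero])
  have hq := hlow q _ hι
  obtain ⟨L, hL, ⟨eL⟩⟩ := hdet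
  obtain ⟨γ, hγ⟩ := exists_hom_det (M := O (k := k) (n := n) q) (α := kernel.lift χ ψ h ≫ eq.hom) hE hL
    (ProjPic26.isInvertible_twistProjSpace n k q) fun h' => hψ (by
      rw [← hfac, ← eq.hom_inv_id_assoc (kernel.ι χ), ← Category.assoc, h', zero_comp])
  have hγ' : eL.inv ≫ γ ≠ 0 := fun h' => hγ (by rwa [← cancel_epi eL.inv, comp_zero])
  obtain ⟨t⟩ := nonempty_tensor_O (k := k) (n := n) c (-q)
  obtain ⟨e⟩ := nonempty_tensor_O_neg (k := k) (n := n) (add_neg_cancel q)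
  obtain ⟨e'⟩ := nonempty_tensor_O_neg (k := k) (n := n) (neg_add_cancel q)
  obtain ⟨j, hj⟩ := exists_untwist (E := E) e e' hγ' t
  have := hlow (c + -q) j hj
  omega

/-- Endomorphisms of stable rank two bundles are homotheties. -/
theorem exists_scalar [IsAlgClosed k] [(CohB1.ProjSpace n k).Over (Spec (CommRingCat.of k))]
    [IsProper ((CohB1.ProjSpace n k) ↘ Spec (CommRingCat.of k))]
    {E : (CohB1.ProjSpace n k).Modules} (hE : FlatMod.IsFinLocFreeOfRank 2 E)
    {c k₀ : ℤ} (hdet : ∃ L : (CohB1.ProjSpace n k).Modules, ExtPow.IsExtPow 2 E L ∧ Nonempty (L ≅ O c))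
    (hk₀ : c + 2 * k₀ = 0 ∨ c + 2 * k₀ = -1)
    (h0 : Subsingleton (Coh.HH (CohB1.ProjSpace n k) (CohB1.tensorMod E (O k₀)) 0))
    (φ : E ⟶ E) : ∃ a : k, φ = CurveMult.endScalar k E a := by
  classical
  haveI : AlgebraicGeometry.IsNoetherian (CohB1.ProjSpace n k) := CMReg.isNoetherian_projSpace
  have hEc := Euler.isCoh_of_isFinLocFree (FinCov.isFinLocFree_of_rank hE)
  have hex : ∃ d : ℕ, ∃ μ : k[X], μ.natDegree = d ∧ μ.Monic ∧ CurveMult.endEval k E φ μ = 0 :=
    let ⟨μ, h1, h2⟩ := CurveMult.exists_monic_endEval_eq_zero k hEc φ; ⟨_, μ, rfl, h1, h2⟩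
  obtain ⟨μ, hμd, hμ, hμ0⟩ := Nat.find_spec hex
  rcases Nat.eq_zero_or_pos μ.natDegree with h00 | hpos
  · refine ⟨0, ?_⟩
    rw [Polynomial.eq_one_of_monic_natDegree_zero hμ h00, map_one] at hμ0
    exact ((eq_zero_of_zero_eq_one hμ0.symm (φ : End E))).trans (map_zero (CurveMult.endScalar k E)).symm
  obtain ⟨a, ha⟩ := IsAlgClosed.exists_root μ (by rw [Polynomial.degree_eq_natDegree hμ.ne_zero]; exact_mod_cast hpos.ne')
  obtain ⟨q, hq⟩ := Polynomial.dvd_iff_isRoot.2 ha
  have hqm : q.Monic := Polynomial.Monic.of_mul_monic_left (Polynomial.monic_X_sub_C a) (hq ▸ hμ)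
  have hqd : q.natDegree < Nat.find hex := by
    rw [← hμd, hq, Polynomial.Monic.natDegree_mul (Polynomial.monic_X_sub_C a) hqm, Polynomial.natDegree_X_sub_C]
    omega
  have hχ : CurveMult.endEval k E φ q ≠ 0 := fun h => Nat.find_min hex hqd ⟨q, rfl, hqm, h⟩
  refine ⟨a, ?_⟩
  by_contra hne
  refine hχ (eq_zero_of_comp_eq_zero hE hdet hk₀ h0
    (ψ := CurveMult.endEval k E φ (Polynomial.X - Polynomial.C a)) ?_ ?_)
  · intro h
    rw [map_sub, CurveMult.endEval_X, CurveMult.endEval_C] at h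
    exact hne (sub_eq_zero.1 h)
  · show CurveMult.endEval k E φ q * CurveMult.endEval k E φ (Polynomial.X - Polynomial.C a) = 0
    rw [← map_mul, mul_comm, ← hq, hμ0]

end GrothLib.RankTwo12
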